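import Cfsg.Agent.Lib.LyPresented.KMat
import Cfsg.Agent.Lib.LyPresented.KChain
import Cfsg.Agent.Lib.ChevOrder.Final
import Cfsg.Agent.Lib.Chev.DataG2
import Cfsg.Agent.S1055

/-!
The group presented by relators (1)-(44) of Ly is `G₂(5)`, and its image in Ly is `⟨a, b, c, d⟩` (helper11).

* `matHom`, `matHom_spec`, `card_kG`, `kIso`
* `lyH`, `range_toLy`, `lyHIso`, `card_lyH`: conditional only on one generator of `⟨a, b, c, d⟩` being nontrivial
-/

set_option autoImplicit false
set_option maxRecDepth 100000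
set_option Elab.async false

namespace Cfsg.Agent.LyPresented

open Cfsg.Lie Cfsg.Agent.CosetEnum
open Cfsg.Agent.CosetEnum.Data (ev)

/-- letter of a generator -/
def KGen.num : KGen → ℕ
  | .a => 0
  | .b => 2
  | .c => 4
  | .d => 6
  | .e => 8
  | .c1 => 10
  | .c2 => 12
  | .c3 => 14
  | .c4 => 16
  | .c5 => 18

theorem num_sg (x : KGen) : kSetup.sg x = x.num ∧ kLetters.invl x.num = partner x.num := by
  cases x <;> exact ⟨by decide +kernel, by decide +kernel⟩

theorem kRels_check : (kSetup.allRels.all fun r => Nat.beq (evP (kSetup.wl kLetters r)) pone) = true := by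
  decide +kernel

theorem lift_rel {r : FreeGroup KGen} (hr : r ∈ kSetup.rels) :
    FreeGroup.lift (fun x : KGen => gmat x.num) r = 1 := by
  rw [Setup.lift_eq_ev (S := kSetup) (D := kLetters) (fun x : KGen => gmat x.num) gmat
    (fun x => by rw [(num_sg x).1]) (fun x => by rw [(num_sg x).1, (num_sg x).2, gmat_inv]) r]
  exact ev_eq_one (List.all_eq_true.mp kRels_check r (kSetup.mem_allRels hr))

/-- The representation by matrices. -/
noncomputable def matHom : kSetup.G →* GL I14 (ZMod 5) :=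
  PresentedGroup.toGroup (f := fun x : KGen => gmat x.num) fun _ hr => lift_rel hr

theorem finite_kG : Finite kSetup.G := Nat.finite_of_card_ne_zero k_card_le.2

theorem gmat_mem : ∀ a < 20, gmat a ∈ matHom.range := by
  have h : ∀ x : KGen, gmat x.num ∈ matHom.range ∧ gmat (partner x.num) ∈ matHom.range := fun x =>
    ⟨⟨PresentedGroup.of x, PresentedGroup.toGroup.of _⟩, by
      rw [← gmat_inv]
      exact inv_mem ⟨PresentedGroup.of x, PresentedGroup.toGroup.of _⟩⟩
  intro a ha
  interval_cases a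
  · exact (h .a).1
  · exact (h .a).2
  · exact (h .b).1
  · exact (h .b).2
  · exact (h .c).1
  · exact (h .c).2
  · exact (h .d).1
  · exact (h .d).2
  · exact (h .e).1
  · exact (h .e).2
  · exact (h .c1).1
  · exact (h .c1).2
  · exact (h .c2).1
  · exact (h .c2).2
  · exact (h .c3).1
  · exact (h .c3).2
  · exact (h .c4).1
  · exact (h .c4).2
  · exact (h .c5).1
  · exact (h .c5).2

theorem card_chev_five : Nat.card ↥(chevG2.group (ZMod 5)) = 5859000000 := by
  rw [ChevOrder.card_G2 (q := 5) (by decide +kernel) Chev.DataG2.good]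
  norm_num

theorem chev_le_range : chevG2.group (ZMod 5) ≤ matHom.range := by
  rw [ChevalleyDatum.group, Subgroup.closure_le]
  rintro g ⟨r, t, hg⟩
  have : g = ev gmat (rootWord r t) := Units.ext (hg.trans (rootWord_spec r t).symm)
  rw [this]
  exact Setup.ev_mem _ _ _ fun a ha => gmat_mem a (Nat.blt_eq.mp (List.all_eq_true.mp (rootWord_lt r t) a ha))

theorem matHom_spec : Function.Injective matHom ∧ matHom.range = chevG2.group (ZMod 5) := by
  have := finite_kG
  have h1 : Nat.card matHom.range ≤ Nat.card kSetup.G :=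
    Nat.card_le_card_of_surjective _ matHom.rangeRestrict_surjective
  have h2 : Nat.card ↥(chevG2.group (ZMod 5)) ≤ Nat.card matHom.range :=
    Nat.card_le_card_of_injective _ (Subgroup.inclusion_injective chev_le_range)
  rw [card_chev_five] at h2
  have h3 := k_card_le.1
  refine ⟨?_, (Subgroup.eq_of_le_of_card_ge chev_le_range (h1.trans (h3.trans card_chev_five.ge))).symm⟩
  have hb : Function.Bijective matHom.rangeRestrict :=
    (Nat.bijective_iff_surjective_and_card _).mpr ⟨matHom.rangeRestrict_surjective, by omega⟩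
  intro x y hxy
  exact hb.1 (Subtype.ext hxy)

/-- Relators (1)-(44) present `G₂(5)`. -/
noncomputable def kIso : kSetup.G ≃* ↥(chevG2.group (ZMod 5)) :=
  (MonoidHom.ofInjective matHom_spec.1).trans (MulEquiv.subgroupCongr matHom_spec.2)

theorem card_kG : Nat.card kSetup.G = 5859000000 := by rw [Nat.card_congr kIso.toEquiv, card_chev_five]

theorem kG_simple : IsSimpleGroup kSetup.G := by
  haveI : IsSimpleGroup ↥(chevG2.group (ZMod 5)) :=
    (S1055.result (F := ZMod 5) ⟨2, by decide, by decide⟩).1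
  exact kIso.isSimpleGroup

/-- The subgroup of Ly generated by `a, b, c, d`. -/
noncomputable abbrev lyH : Subgroup Spor.Ly :=
  (Subgroup.closure ({Spor.Ly.a, Spor.Ly.b, Spor.Ly.c, Spor.Ly.d} : Set (FreeGroup Spor.Ly.Gen))).map
    (PresentedGroup.mk lyRels)

theorem toLy_of (g : KGen) : toLy (PresentedGroup.of g) = PresentedGroup.of (incl g) :=
  PresentedGroup.toGroup.of _

/-- a, b, c, d generate the group of relators (1)-(44). -/
theorem closure_abcd : kSetup.closureOf [KGen.wA, KGen.wB, KGen.wC, KGen.wD] = ⊤ := by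
  set P := kSetup.closureOf [KGen.wA, KGen.wB, KGen.wC, KGen.wD] with hP
  have hm : ∀ w ∈ [KGen.wA, KGen.wB, KGen.wC, KGen.wD], PresentedGroup.mk kSetup.rels w ∈ P := fun w hw =>
    Subgroup.subset_closure ⟨w, hw, rfl⟩
  have ha : (PresentedGroup.of KGen.a : kSetup.G) ∈ P := hm KGen.wA (by simp)
  have hb : (PresentedGroup.of KGen.b : kSetup.G) ∈ P := hm KGen.wB (by simp)
  have hc : (PresentedGroup.of KGen.c : kSetup.G) ∈ P := hm KGen.wC (by simp)
  have hd : (PresentedGroup.of KGen.d : kSetup.G) ∈ P := hm KGen.wD (by simp)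
  have rel : ∀ (x : KGen) (w : FreeGroup KGen), FreeGroup.of x * w⁻¹ ∈ kExtra →
      (PresentedGroup.of x : kSetup.G) = PresentedGroup.mk kSetup.rels w := fun x w h => by
    have := PresentedGroup.one_of_mem (rels := kSetup.rels) (x := FreeGroup.of x * w⁻¹) (Or.inr h)
    rw [map_mul, map_inv, mul_inv_eq_one] at this
    exact this
  have e1 : (PresentedGroup.of KGen.c1 : kSetup.G) ∈ P := by
    rw [rel KGen.c1 KGen.wC (by decide +kernel)]; exact hc
  have e2 : (PresentedGroup.of KGen.c2 : kSetup.G) ∈ P := by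
    rw [rel KGen.c2 (KGen.wA⁻¹ * KGen.wC * KGen.wA) (by decide +kernel), map_mul, map_mul, map_inv]
    exact mul_mem (mul_mem (inv_mem ha) hc) ha
  have e3 : (PresentedGroup.of KGen.c3 : kSetup.G) ∈ P := by
    rw [rel KGen.c3 (KGen.wB⁻¹ * KGen.wC * KGen.wB) (by decide +kernel), map_mul, map_mul, map_inv]
    exact mul_mem (mul_mem (inv_mem hb) hc) hb
  have e4 : (PresentedGroup.of KGen.c4 : kSetup.G) ∈ P := by
    rw [rel KGen.c4 ((KGen.wB⁻¹)⁻¹ * KGen.wC * (KGen.wB⁻¹)) (by decide +kernel), map_mul, map_mul, map_inv, map_inv]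
    exact mul_mem (mul_mem (inv_mem (inv_mem hb)) hc) (inv_mem hb)
  have e5 : (PresentedGroup.of KGen.c5 : kSetup.G) ∈ P := by
    rw [rel KGen.c5 (KGen.wC1⁻¹ * KGen.wC2⁻¹ * KGen.wC1 * KGen.wC2) (by decide +kernel), map_mul, map_mul, map_mul,
      map_inv, map_inv]
    exact mul_mem (mul_mem (mul_mem (inv_mem e1) (inv_mem e2)) e1) e2
  have ee : (PresentedGroup.of KGen.e : kSetup.G) ∈ P := by
    rw [rel KGen.e (((KGen.wB ^ 2)⁻¹) * (KGen.wA⁻¹ * KGen.wC1⁻¹ * KGen.wA * KGen.wC1) * (KGen.wA⁻¹) * KGen.wC1 *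
      KGen.wA * KGen.wD * KGen.wC1 * KGen.wB * KGen.wA * (KGen.wB⁻¹) * KGen.wD * KGen.wC1 * KGen.wD)
      (by decide +kernel)]
    simp only [map_mul, map_inv, map_pow]
    exact mul_mem (mul_mem (mul_mem (mul_mem (mul_mem (mul_mem (mul_mem (mul_mem (mul_mem (mul_mem (mul_mem (mul_mem
      (inv_mem (pow_mem hb 2)) (mul_mem (mul_mem (mul_mem (inv_mem ha) (inv_mem e1)) ha) e1)) (inv_mem ha)) e1) ha)
      hd) e1) hb) ha) (inv_mem hb)) hd) e1) hd
  rw [eq_top_iff, ← PresentedGroup.closure_range_of kSetup.rels, Subgroup.closure_le]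
  rintro _ ⟨x, rfl⟩
  cases x <;> assumption

theorem range_toLy : toLy.range = lyH := by
  have h1 : lyH = (kSetup.closureOf [KGen.wA, KGen.wB, KGen.wC, KGen.wD]).map toLy := by
    rw [Setup.closureOf, MonoidHom.map_closure, lyH, MonoidHom.map_closure]
    congr 1
    have : ∀ x : KGen, toLy (PresentedGroup.mk kSetup.rels (FreeGroup.of x)) =
        PresentedGroup.mk lyRels (FreeGroup.of (incl x)) := fun x => toLy_of x
    ext g
    simp only [Set.mem_image, List.mem_cons, List.not_mem_nil, or_false, Set.mem_insert_iff, Set.mem_singleton_iff]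
    constructor
    · rintro ⟨w, rfl | rfl | rfl | rfl, rfl⟩
      · exact ⟨_, ⟨KGen.wA, Or.inl rfl, rfl⟩, this .a⟩
      · exact ⟨_, ⟨KGen.wB, Or.inr (Or.inl rfl), rfl⟩, this .b⟩
      · exact ⟨_, ⟨KGen.wC, Or.inr (Or.inr (Or.inl rfl)), rfl⟩, this .c⟩
      · exact ⟨_, ⟨KGen.wD, Or.inr (Or.inr (Or.inr rfl)), rfl⟩, this .d⟩
    · rintro ⟨_, ⟨w, rfl | rfl | rfl | rfl, rfl⟩, rfl⟩
      · exact ⟨_, Or.inl rfl, (this .a).symm⟩
      · exact ⟨_, Or.inr (Or.inl rfl), (this .b).symm⟩
      · exact ⟨_, Or.inr (Or.inr (Or.inl rfl)), (this .c).symm⟩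
      · exact ⟨_, Or.inr (Or.inr (Or.inr rfl)), (this .d).symm⟩
  rw [h1, closure_abcd, MonoidHom.range_eq_map]

/-- `toLy` is injective as soon as some generator survives. -/
theorem toLy_injective {g : KGen} (hg : (PresentedGroup.of (incl g) : Spor.Ly) ≠ 1) : Function.Injective toLy := by
  haveI := kG_simple
  rcases (MonoidHom.normal_ker toLy).eq_bot_or_eq_top with h | h
  · exact (MonoidHom.ker_eq_bot_iff _).mp h
  · exact absurd ((toLy_of g).symm.trans (MonoidHom.mem_ker.mp (h ▸ Subgroup.mem_top _))) hg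

theorem card_lyH_le : Nat.card lyH ≤ 5859000000 := by
  haveI := finite_kG
  rw [← range_toLy, ← card_kG]
  exact Nat.card_le_card_of_surjective _ toLy.rangeRestrict_surjective

/-- `⟨a, b, c, d⟩ ≅ G₂(5)` in Ly. -/
noncomputable def lyHIso {g : KGen} (hg : (PresentedGroup.of (incl g) : Spor.Ly) ≠ 1) :
    lyH ≃* ↥(chevG2.group (ZMod 5)) :=
  ((MulEquiv.subgroupCongr range_toLy.symm).trans (MonoidHom.ofInjective (toLy_injective hg)).symm).trans kIso

theorem card_lyH {g : KGen} (hg : (PresentedGroup.of (incl g) : Spor.Ly) ≠ 1) : Nat.card lyH = 5859000000 := by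
  rw [Nat.card_congr (lyHIso hg).toEquiv, card_chev_five]

end Cfsg.Agent.LyPresented
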