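import Cfsg.Agent.Lib.LyPresented.KData
import Cfsg.Agent.Lib.LyPresented.PackMat
import Cfsg.Agent.Lib.CosetEnum.Check
import Cfsg.Prelude.Def_ChevG2

/-!
The images of the generators of the group of relators (1)-(44) as invertible 14 × 14 matrices over `ZMod 5`, with
packed evaluation of words (helper11).

* `gmat`, `evP`, `ev_eq_one`, `rootWord_spec`
-/

set_option autoImplicit false
set_option maxRecDepth 100000
set_option Elab.async false

namespace Cfsg.Agent.LyPresented

open Cfsg.Lie Cfsg.Agent.CosetEnum
open Cfsg.Agent.CosetEnum.Data (ev)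

instance instFactFive : Fact (Nat.Prime 5) := ⟨by norm_num⟩

/-- index set -/
abbrev I14 : Type := chevG2.Idx

/-- square matrices of size 14 over `ZMod 5` -/
abbrev M14 : Type := Matrix (Fin 14) (Fin 14) (ZMod 5)

/-- numbering of the coordinates -/
def e14 : Fin 14 ≃ I14 := (finSumFinEquiv (m := 2) (n := 12)).symm

/-- to the coordinates of `chevG2` -/
noncomputable def lift14 : GL (Fin 14) (ZMod 5) →* GL I14 (ZMod 5) :=
  Units.map (Matrix.reindexAlgEquiv (ZMod 5) (ZMod 5) e14).toMulEquiv.toMonoidHom

/-- entry -/
noncomputable def rowEntry (A : List ℕ) (i k : ℕ) : ℕ := lane 4 (A.getD i 0) k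

/-- identity -/
def pone : ℕ := mkPack 14 fun i k => bif Nat.beq i k then 1 else 0

/-- rows of a letter -/
def genRows (a : ℕ) : List ℕ := genTab.getD a ((List.range 14).map fun i => 2 ^ (4 * i))

/-- matrix of a letter -/
noncomputable def m14 (a : ℕ) : M14 := Matrix.of fun i k => (rowEntry (genRows a) i k : ZMod 5)

/-- packed matrix of a letter -/
noncomputable def genP (a : ℕ) : ℕ := mkPack 14 (rowEntry (genRows a))

theorem genP_rep (a : ℕ) : IsRep 14 (genP a) (m14 a) := IsRep.mk 14 _

theorem pone_rep : IsRep 14 pone (1 : M14) := by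
  have h := IsRep.mk 14 fun i k => bif Nat.beq i k then 1 else 0
  refine (?_ : (Matrix.of fun i k : Fin 14 => (((bif Nat.beq i k then 1 else 0 : ℕ)) : ZMod 5)) = 1) ▸ h
  ext i k
  rw [Matrix.of_apply, Matrix.one_apply]
  by_cases hik : i = k
  · subst hik; simp
  · have : Nat.beq (i : ℕ) k = false := by
      rw [Bool.eq_false_iff, Ne, CosetEnum.beq_iff]
      exact fun hc => hik (Fin.ext hc)
    simp [this, hik]

/-- the partner of a letter -/
def partner (a : ℕ) : ℕ := if a % 2 = 0 then a + 1 else a - 1

theorem genP_inv_check : ((List.range 22).all fun a => Nat.beq (mmul 14 (genP a) (genP (partner a))) pone) = true := by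
  decide +kernel

theorem genRows_default {a : ℕ} (h : 20 ≤ a) : genRows a = genRows 20 := by
  have hl : genTab.length = 20 := by decide +kernel
  rw [genRows, genRows, List.getD_eq_default _ _ (by omega), List.getD_eq_default _ _ (by omega)]

theorem m14_inv (a : ℕ) : m14 a * m14 (partner a) = 1 := by
  have key : ∀ b < 22, m14 b * m14 (partner b) = 1 := fun b hb => by
    have h := CosetEnum.beq_iff.mp (List.all_eq_true.mp genP_inv_check b (List.mem_range.mpr hb))
    exact ((genP_rep b).mul (by norm_num) (genP_rep _)).unique (h ▸ pone_rep)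
  by_cases h : a < 22
  · exact key a h
  · have e1 : m14 a = m14 20 := by simp only [m14]; rw [genRows_default (by omega)]
    have e2 : m14 (partner a) = m14 (partner 20) := by
      simp only [m14]
      rw [genRows_default (show 20 ≤ partner a by unfold partner; split <;> omega),
        genRows_default (show 20 ≤ partner 20 by decide)]
    rw [e1, e2]
    exact key 20 (by norm_num)

theorem partner_partner (a : ℕ) : partner (partner a) = a := by
  unfold partner
  split <;> split <;> omega

/-- the image of a letter on 14 numbered coordinates -/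
noncomputable def g14 (a : ℕ) : GL (Fin 14) (ZMod 5) where
  val := m14 a
  inv := m14 (partner a)
  val_inv := m14_inv a
  inv_val := by
    have h := m14_inv (partner a)
    rwa [partner_partner] at h

theorem g14_inv (a : ℕ) : (g14 a)⁻¹ = g14 (partner a) := Units.ext rfl

/-- the image of a letter -/
noncomputable def gmat (a : ℕ) : GL I14 (ZMod 5) := lift14 (g14 a)

theorem gmat_inv (a : ℕ) : (gmat a)⁻¹ = gmat (partner a) := by rw [gmat, ← map_inv, g14_inv]; rfl

/-- packed value of a word -/
noncomputable def evP : List ℕ → ℕ :=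
  List.rec (motive := fun _ => ℕ) pone
    (fun a _ ih => force ih fun r => force (genP a) fun m => mmul 14 r m)

theorem ev_rep : ∀ w : List ℕ, IsRep 14 (evP w) (ev g14 w : GL (Fin 14) (ZMod 5))
  | [] => pone_rep
  | a :: v => by
    show IsRep 14 (force (evP v) fun r => force (genP a) fun m => mmul 14 r m) _
    rw [force_eq, force_eq]
    exact (ev_rep v).mul (by norm_num) (genP_rep a)

theorem ev_gmat : ∀ w : List ℕ, ev gmat w = lift14 (ev g14 w)
  | [] => (map_one lift14).symm
  | a :: v => by
    show ev gmat v * gmat a = lift14 (ev g14 v * g14 a)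
    rw [map_mul, ev_gmat v, gmat]

theorem ev_eq_one {w : List ℕ} (h : Nat.beq (evP w) pone = true) : ev gmat w = 1 := by
  have : ev g14 w = 1 := Units.ext (((ev_rep w).unique (CosetEnum.beq_iff.mp h ▸ pone_rep)).trans Units.val_one.symm)
  rw [ev_gmat, this, map_one]

/-- rows of a root element -/
def rootRows (r : Fin chevG2.nroots) (t : ZMod 5) : List ℕ := (rootTab.getD (5 * r.val + t.val) ([], [])).1

/-- word of a root element -/
def rootWord (r : Fin chevG2.nroots) (t : ZMod 5) : List ℕ := (rootTab.getD (5 * r.val + t.val) ([], [])).2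

theorem rootRows_spec : ∀ (r : Fin chevG2.nroots) (t : ZMod 5) (i k : Fin 14),
    (rowEntry (rootRows r t) i k : ZMod 5) = chevG2.xMat (ZMod 5) r t (e14 i) (e14 k) := by
  decide +kernel

theorem rootWord_check : (rootTab.all fun p => Nat.beq (evP p.2) (mkPack 14 (rowEntry p.1))) = true := by
  decide +kernel

theorem rootTab_length : rootTab.length = 60 := by decide +kernel

theorem rootWord_lt : ∀ (r : Fin chevG2.nroots) (t : ZMod 5), (rootWord r t).all (fun a => Nat.blt a 20) = true := by
  decide +kernel

theorem rootWord_spec (r : Fin chevG2.nroots) (t : ZMod 5) :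
    ((ev gmat (rootWord r t) : GL I14 (ZMod 5)) : Matrix I14 I14 (ZMod 5)) = chevG2.xMat (ZMod 5) r t := by
  have hlt : 5 * r.val + t.val < rootTab.length := by
    have : r.val < 12 := r.2
    have : t.val < 5 := ZMod.val_lt t
    rw [rootTab_length]
    omega
  have h := CosetEnum.beq_iff.mp (List.all_eq_true.mp rootWord_check _ (List.getElem_mem hlt))
  have hval : ((ev g14 (rootWord r t) : GL (Fin 14) (ZMod 5)) : M14) =
      Matrix.of fun i k : Fin 14 => (rowEntry (rootRows r t) i k : ZMod 5) := by
    refine (ev_rep _).unique ?_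
    rw [rootWord, rootRows, List.getD_eq_getElem _ _ hlt, h]
    exact IsRep.mk 14 _
  rw [ev_gmat]
  ext i k
  show ((ev g14 (rootWord r t) : GL (Fin 14) (ZMod 5)) : M14) (e14.symm i) (e14.symm k) = _
  rw [hval, Matrix.of_apply, rootRows_spec, Equiv.apply_symm_apply, Equiv.apply_symm_apply]

end Cfsg.Agent.LyPresented
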