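/-
The relators (1)-(44) of the presented Lyons group as a group on ten generators, its `Setup`, and its map to Ly.
Main definitions: `kSetup`, `kLetters`, `incl`, `toLy`.
-/
import Cfsg.Prelude.Def_Spor_Ly
import Cfsg.Agent.Lib.CosetEnum.Order

set_option autoImplicit false
set_option maxRecDepth 100000

namespace Cfsg.Agent.LyPresented

open Cfsg.Agent.CosetEnum

/-- The generators a, b, c, d, e, c1, ..., c5. -/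
inductive KGen
  | a
  | b
  | c
  | d
  | e
  | c1
  | c2
  | c3
  | c4
  | c5
  deriving DecidableEq

namespace KGen

/-- the generator a as a word -/ abbrev wA : FreeGroup KGen := FreeGroup.of KGen.a
/-- the generator b as a word -/ abbrev wB : FreeGroup KGen := FreeGroup.of KGen.b
/-- the generator c as a word -/ abbrev wC : FreeGroup KGen := FreeGroup.of KGen.c
/-- the generator d as a word -/ abbrev wD : FreeGroup KGen := FreeGroup.of KGen.d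
/-- the generator e as a word -/ abbrev wE : FreeGroup KGen := FreeGroup.of KGen.e
/-- the generator c1 as a word -/ abbrev wC1 : FreeGroup KGen := FreeGroup.of KGen.c1
/-- the generator c2 as a word -/ abbrev wC2 : FreeGroup KGen := FreeGroup.of KGen.c2
/-- the generator c3 as a word -/ abbrev wC3 : FreeGroup KGen := FreeGroup.of KGen.c3
/-- the generator c4 as a word -/ abbrev wC4 : FreeGroup KGen := FreeGroup.of KGen.c4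
/-- the generator c5 as a word -/ abbrev wC5 : FreeGroup KGen := FreeGroup.of KGen.c5

end KGen

section
open KGen

/-- Relators (1)-(44). -/
def kExtra : List (FreeGroup KGen) :=
  [
  wA ^ 8,
  wB ^ 5,
  (wA * wB) ^ 4,
  (wA ^ 2)⁻¹ * wB⁻¹ * (wA ^ 2) * wB,
  (wA⁻¹ * wB⁻¹ * wA * wB) ^ 3,
  wC1 * (wC⁻¹),
  wC2 * ((wA⁻¹ * wC * wA)⁻¹),
  wC3 * ((wB⁻¹ * wC * wB)⁻¹),
  wC4 * (((wB⁻¹)⁻¹ * wC * (wB⁻¹))⁻¹),
  wC5 * ((wC1⁻¹ * wC2⁻¹ * wC1 * wC2)⁻¹),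
  wC1 ^ 5,
  wC5 ^ 5,
  wC1⁻¹ * wC5⁻¹ * wC1 * wC5,
  wC2⁻¹ * wC5⁻¹ * wC2 * wC5,
  wC3⁻¹ * wC5⁻¹ * wC3 * wC5,
  wC4⁻¹ * wC5⁻¹ * wC4 * wC5,
  (wC1⁻¹ * wC3⁻¹ * wC1 * wC3) * (((wC5 ^ 2)⁻¹)⁻¹),
  (wC1⁻¹ * wC4⁻¹ * wC1 * wC4) * ((wC5 ^ 2)⁻¹),
  (wC2⁻¹ * wC3⁻¹ * wC2 * wC3) * ((wC5⁻¹)⁻¹),
  wC2⁻¹ * wC4⁻¹ * wC2 * wC4,
  (wC3⁻¹ * wC4⁻¹ * wC3 * wC4) * ((wC5⁻¹)⁻¹),
  (wA⁻¹ * wC2 * wA) * (((wC1 ^ 2)⁻¹)⁻¹),
  (wA⁻¹ * wC3 * wA) * ((((wC3 ^ 2)⁻¹) * wC1 * wC4)⁻¹),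
  (wA⁻¹ * wC4 * wA) * ((wC1 * (wC2⁻¹) * (wC3⁻¹) * wC4 * wC1 * wC4)⁻¹),
  (wA⁻¹ * wC5 * wA) * ((wC5 ^ 2)⁻¹),
  (wB⁻¹ * wC2 * wB) * ((wC2 * wC3 * (wC4⁻¹) * (wC1⁻¹) * (wC4⁻¹))⁻¹),
  (wB⁻¹ * wC3 * wB) * (((wC1 ^ 2) * wC4 * ((wC3 ^ 2)⁻¹))⁻¹),
  (wB⁻¹ * wC5 * wB) * (wC5⁻¹),
  wE * ((((wB ^ 2)⁻¹) * (wA⁻¹ * wC1⁻¹ * wA * wC1) * (wA⁻¹) * wC1 * wA * wD * wC1 * wB * wA * (wB⁻¹) * wD * wC1 * wD)⁻¹),
  wE ^ 2,
  (wE⁻¹ * wC1 * wE) * ((wB * wC3 * wB * (wC1⁻¹))⁻¹),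
  (wE⁻¹ * wC3 * wE) * (((wB ^ 2) * wA * wC2 * (wC1⁻¹) * (wC4⁻¹) * (wA⁻¹))⁻¹),
  (wE⁻¹ * wC4 * wE) * (((wB ^ 2) * (wC3⁻¹) * wC4)⁻¹),
  (wE⁻¹ * wC5 * wE) * ((wC1 * (wC3⁻¹) * wC1 * (wC4⁻¹))⁻¹),
  (wE * (wA ^ 2) * wE) * ((wA * (wB ^ 2) * wA * (wB⁻¹) * wA * wC1 * wC5 * (wC4⁻¹))⁻¹),
  (wE⁻¹ * wB * wE) * ((wC1 * (wC3⁻¹) * ((wC4 ^ 2)⁻¹))⁻¹),
  (wE * wA * (wB ^ 2) * wA * (wB⁻¹) * wA * wE) * (((wA ^ 2) * wC1 * wC5 * (wC4⁻¹))⁻¹),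
  wE * wC2 * wE * (wC2⁻¹) * wE * wC2 * (wC4⁻¹) * wA * wC3 * (wA ^ 3),
  wD * ((wA * (wB ^ 2) * (wA⁻¹) * (wB⁻¹) * (wC1⁻¹) * (wC4⁻¹) * (wC5⁻¹) * wA * wE * wA * wE * wA * (wC2⁻¹) * wB * wE)⁻¹),
  (wD ^ 2) * ((wA ^ 4)⁻¹),
  wB⁻¹ * wD⁻¹ * wB * wD,
  (wD⁻¹ * wA * wD) * ((wA ^ 3)⁻¹),
  (wD * wC5) ^ 5,
  wD * wC5 * wD * (wC5⁻¹) * wD * wC5 * ((wA ^ 2)⁻¹)
  ]

end

/-- The setup. -/
def kSetup : Setup KGen where
  edges := []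
  extra := kExtra
  gens := [.a, .b, .c, .d, .e, .c1, .c2, .c3, .c4, .c5]
  pos := [0, 2, 4, 6, 8, 10, 12, 14, 16, 18]
  lt := [(.a, true), (.a, false), (.b, true), (.b, false), (.c, true), (.c, false), (.d, true), (.d, false), (.e, true), (.e, false), (.c1, true), (.c1, false), (.c2, true), (.c2, false), (.c3, true), (.c3, false), (.c4, true), (.c4, false), (.c5, true), (.c5, false)]

theorem kSetup_gens : ∀ x, x ∈ kSetup.gens := by intro x; cases x <;> simp [kSetup]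

/-- The letters. -/
def kLetters : Data := letterData 20 [1, 0, 3, 2, 5, 4, 7, 6, 9, 8, 11, 10, 13, 12, 15, 14, 17, 16, 19, 18]

/-- The generators inside Ly. -/
def incl : KGen → Spor.Ly.Gen
  | .a => .a
  | .b => .b
  | .c => .c
  | .d => .d
  | .e => .e
  | .c1 => .c1
  | .c2 => .c2
  | .c3 => .c3
  | .c4 => .c4
  | .c5 => .c5

theorem incl_rels : ∀ r ∈ kExtra, FreeGroup.map incl r ∈ Spor.Ly.extra := by
  decide +kernel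

/-- The relator set of Ly. -/
abbrev lyRels : Set (FreeGroup Spor.Ly.Gen) :=
  Spor.coxRelators Spor.Ly.edges ∪ {r | r ∈ Spor.Ly.extra}

/-- The map to Ly. -/
noncomputable def toLy : kSetup.G →* Spor.Ly :=
  PresentedGroup.toGroup (f := fun g => (PresentedGroup.of (incl g) : Spor.Ly)) fun r hr => by
    have h : FreeGroup.lift (fun g => (PresentedGroup.of (incl g) : Spor.Ly)) r
        = PresentedGroup.mk lyRels (FreeGroup.map incl r) :=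
      DFunLike.congr_fun (FreeGroup.ext_hom (f := FreeGroup.lift _)
        (g := (PresentedGroup.mk lyRels).comp (FreeGroup.map incl)) fun a => by
          simp [PresentedGroup.of]) r
    rw [h]
    refine PresentedGroup.one_of_mem (Or.inr (incl_rels r ?_))
    simpa [Setup.rels, kSetup, Spor.coxRelators, Spor.coxNodes] using hr

end Cfsg.Agent.LyPresented
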