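import Cfsg.Agent.EqLemmas

/-!
# Simplicity of a group from the suborbits of a simple subgroup (helper11)

* `isSimpleGroup_of_five_orbits` : `H` is simple, the cosets other than `H` fall into at most four `H`-orbits whose
  sizes admit no proper block, and the index has at least five prime divisors
* `ly_isSimpleGroup` : the numbers of Ly
-/

set_option autoImplicit false

namespace Cfsg.Agent.LyPresented

open MulAction Pointwise

variable {G : Type*} [Group G] [Finite G] (H : Subgroup G) {k : ℕ} (x : Fin k → G)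

/-- Suborbit of a representative. -/
def subOrbit (j : Fin k) : Set (G ⧸ H) := {q | ∃ h ∈ H, q = ((h * x j : G) : G ⧸ H)}

theorem not_mem_subOrbit_base (hx : ∀ j, x j ∉ H) (j : Fin k) : ((1 : G) : G ⧸ H) ∉ subOrbit H x j := by
  rintro ⟨h, hh, e⟩
  rw [QuotientGroup.eq, inv_one, one_mul] at e
  exact hx j (by simpa using H.mul_mem (H.inv_mem hh) e)

theorem isSimpleGroup_of_five_orbits [IsSimpleGroup H]
    (hx : ∀ j, x j ∉ H) (hcov : ∀ g : G, g ∈ H ∨ ∃ j, ((g : G) : G ⧸ H) ∈ subOrbit H x j)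
    (hdisj : ∀ i j, ∀ q, q ∈ subOrbit H x i → q ∈ subOrbit H x j → i = j)
    (sz : Fin k → ℕ) (hsz : ∀ j, (subOrbit H x j).ncard = sz j) (hbig : ∃ j, 1 < sz j)
    (hdiv : ∀ S : Finset (Fin k), 1 + ∑ j ∈ S, sz j ∣ H.index → S = ∅ ∨ S = Finset.univ)
    (P : Finset ℕ) (hP : ∀ p ∈ P, p.Prime ∧ p ∣ H.index) (hk : k < P.card) : IsSimpleGroup G := by
  classical
  obtain ⟨j0, hj0⟩ := hbig
  have hnH : ¬ H.Normal := fun hn => by
    have hsub : subOrbit H x j0 ⊆ {((x j0 : G) : G ⧸ H)} := by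
      rintro _ ⟨h, hh, rfl⟩
      rw [Set.mem_singleton_iff, QuotientGroup.eq, mul_inv_rev]
      have := hn.conj_mem _ (H.inv_mem hh) (x j0)⁻¹
      simpa [mul_assoc] using this
    have := Set.ncard_le_ncard hsub
    rw [Set.ncard_singleton, hsz] at this
    omega
  haveI : Nontrivial G := ⟨⟨x j0, 1, fun h => hx j0 (h ▸ H.one_mem)⟩⟩
  refine ⟨fun N hN => ?_⟩
  -- the trace of `N` in `H`
  have hNH : (N.subgroupOf H).Normal := hN.comap H.subtype
  set B : Set (G ⧸ H) := (fun n : G => (n : G ⧸ H)) '' (N : Set G) with hBdef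
  have hB : B = orbit N ((1 : G) : G ⧸ H) := by
    ext q
    constructor
    · rintro ⟨n, hn, rfl⟩
      exact ⟨⟨n, hn⟩, by show ((n * 1 : G) : G ⧸ H) = _; rw [mul_one]⟩
    · rintro ⟨⟨n, hn⟩, rfl⟩
      exact ⟨n, hn, by show _ = ((n * 1 : G) : G ⧸ H); rw [mul_one]⟩
  have hblock : IsBlock G B := hB ▸ IsBlock.orbit_of_normal _
  have hdvd : B.ncard ∣ H.index := hblock.ncard_dvd_card ⟨_, 1, N.one_mem, rfl⟩
  set T : Finset (Fin k) := Finset.univ.filter fun j => (subOrbit H x j ∩ B).Nonempty with hT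
  have hwhole : ∀ j ∈ T, subOrbit H x j ⊆ B := by
    intro j hj
    obtain ⟨_, ⟨h, hh, rfl⟩, n, hn, e⟩ := (Finset.mem_filter.1 hj).2
    rintro _ ⟨h', hh', rfl⟩
    refine ⟨h' * h⁻¹ * n * (h' * h⁻¹)⁻¹, hN.conj_mem _ hn _, ?_⟩
    rw [QuotientGroup.eq] at e ⊢
    have := H.mul_mem (H.mul_mem hh' (H.inv_mem hh)) e
    convert this using 1
    group
  have hBeq : B = ↑({((1 : G) : G ⧸ H)} : Finset (G ⧸ H)) ∪ ⋃ j ∈ T, subOrbit H x j := by
    refine Set.Subset.antisymm ?_ ?_
    · rintro _ ⟨n, hn, rfl⟩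
      rcases hcov n with h | ⟨j, hj⟩
      · left
        simp only [Finset.coe_singleton, Set.mem_singleton_iff, QuotientGroup.eq, mul_one]
        exact H.inv_mem h
      · exact Or.inr (Set.mem_biUnion (Finset.mem_filter.2 ⟨Finset.mem_univ _, _, hj, n, hn, rfl⟩) hj)
    · rintro q (h | h)
      · rw [Finset.coe_singleton, Set.mem_singleton_iff] at h
        exact ⟨1, N.one_mem, h.symm⟩
      · obtain ⟨j, hj, hq⟩ := Set.mem_iUnion₂.1 h
        exact hwhole j hj hq
  have hcard : B.ncard = 1 + ∑ j ∈ T, sz j := by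
    have hfin : ∀ j, (subOrbit H x j).Finite := fun _ => Set.toFinite _
    rw [hBeq, show (⋃ j ∈ T, subOrbit H x j) = ↑(T.biUnion fun j => (hfin j).toFinset) by simp,
      ← Finset.coe_union, Set.ncard_coe_finset, Finset.card_union_of_disjoint, Finset.card_singleton,
      Finset.card_biUnion]
    · congr 1
      exact Finset.sum_congr rfl fun j _ => by rw [← Set.ncard_eq_toFinset_card _ (hfin j), hsz]
    · intro i _ j _ hij
      rw [Function.onFun, Finset.disjoint_left]
      exact fun q hi hj => hij (hdisj i j q ((hfin i).mem_toFinset.1 hi) ((hfin j).mem_toFinset.1 hj))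
    · rw [Finset.disjoint_singleton_left]
      simp only [Finset.mem_biUnion, Set.Finite.mem_toFinset, not_exists, not_and]
      exact fun j _ => not_mem_subOrbit_base H x hx j
  have hcases := hdiv T (hcard ▸ hdvd)
  have hinter : H ≤ N ∨ ∀ g ∈ H, g ∈ N → g = 1 := by
    rcases hNH.eq_bot_or_eq_top with h | h
    · right
      intro g hg hgN
      have : (⟨g, hg⟩ : H) ∈ N.subgroupOf H := hgN
      rw [h, Subgroup.mem_bot] at this
      exact congrArg Subtype.val this
    · exact Or.inl (Subgroup.subgroupOf_eq_top.1 h)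
  rcases hcases with hT0 | hT1
  · -- `N ≤ H`
    have hle : N ≤ H := fun n hn => by
      have : ((n : G) : G ⧸ H) ∈ B := ⟨n, hn, rfl⟩
      rw [hBeq, hT0] at this
      rcases this with h | h
      · rw [Finset.coe_singleton, Set.mem_singleton_iff, QuotientGroup.eq, mul_one] at h
        simpa using H.inv_mem h
      · obtain ⟨j, hj, -⟩ := Set.mem_iUnion₂.1 h
        exact absurd hj (Finset.notMem_empty j)
    rcases hinter with h | h
    · exact absurd (le_antisymm hle h ▸ hN) hnH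
    · exact Or.inl ((Subgroup.eq_bot_iff_forall _).2 fun n hn => h n (hle hn) hn)
  · -- `N` is transitive
    have htop : ∀ g : G, ∃ n ∈ N, n⁻¹ * g ∈ H := fun g => by
      have : ((g : G) : G ⧸ H) ∈ B := by
        rcases hcov g with h | ⟨j, hj⟩
        · exact ⟨1, N.one_mem, QuotientGroup.eq.2 (by simpa using h)⟩
        · exact hwhole j (hT1 ▸ Finset.mem_univ j) hj
      obtain ⟨n, hn, e⟩ := this
      exact ⟨n, hn, QuotientGroup.eq.1 e⟩
    rcases hinter with h | h
    · right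
      refine eq_top_iff.2 fun g _ => ?_
      obtain ⟨n, hn, hng⟩ := htop g
      simpa using N.mul_mem hn (h hng)
    · exfalso
      have hbij : Function.Bijective (fun n : N => ((n : G) : G ⧸ H)) := by
        refine ⟨fun a b e => ?_, fun q => ?_⟩
        · exact Subtype.ext (inv_mul_eq_one.1 (h _ (QuotientGroup.eq.1 e) (N.mul_mem (N.inv_mem a.2) b.2)))
        · obtain ⟨g, rfl⟩ := QuotientGroup.mk_surjective q
          obtain ⟨n, hn, hng⟩ := htop g
          exact ⟨⟨n, hn⟩, QuotientGroup.eq.2 hng⟩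
      have hcardN : Nat.card N = H.index := Nat.card_congr (Equiv.ofBijective _ hbij)
      have hsel : ∀ p ∈ P, ∃ n ∈ N, orderOf n = p ∧ n ∉ H := fun p hp => by
        haveI : Fact p.Prime := ⟨(hP p hp).1⟩
        obtain ⟨n, hn⟩ := exists_prime_orderOf_dvd_card' (G := N) p (hcardN.symm ▸ (hP p hp).2)
        refine ⟨n, n.2, by rw [Subgroup.orderOf_coe, hn], fun hH => ?_⟩
        rw [show n = 1 from Subtype.ext (h _ hH n.2), orderOf_one] at hn
        exact (hP p hp).1.ne_one hn.symm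
      choose f hf1 hf2 hf3 using hsel
      have hor : ∀ p : P, ∃ j, ((f p p.2 : G) : G ⧸ H) ∈ subOrbit H x j := fun p =>
        (hcov _).resolve_left (hf3 _ p.2)
      choose J hJ using hor
      obtain ⟨p, q, hpq, hJpq⟩ := Fintype.exists_ne_map_eq_of_card_lt J (by simpa using hk)
      obtain ⟨h1, hh1, e1⟩ := hJ p
      obtain ⟨h2, hh2, e2⟩ := hJ q
      rw [← hJpq] at e2
      have e3 : ((f p p.2 : G) : G ⧸ H) = ((h1 * h2⁻¹ * f q q.2 * (h1 * h2⁻¹)⁻¹ : G) : G ⧸ H) := by
        rw [e1]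
        rw [QuotientGroup.eq] at e2 ⊢
        have h4 : h1 * h2⁻¹ ∈ H := H.mul_mem hh1 (H.inv_mem hh2)
        have := H.mul_mem (H.inv_mem e2) (H.inv_mem h4)
        convert this using 1
        group
      have e4 : f p p.2 = h1 * h2⁻¹ * f q q.2 * (h1 * h2⁻¹)⁻¹ :=
        congrArg Subtype.val (@hbij.1 ⟨_, hf1 _ p.2⟩ ⟨_, hN.conj_mem _ (hf1 _ q.2) _⟩ e3)
      have h5 : orderOf (h1 * h2⁻¹ * f q q.2 * (h1 * h2⁻¹)⁻¹) = orderOf (f q q.2) := by
        rw [← MulAut.conj_apply, MulEquiv.orderOf_eq]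
      rw [← e4, hf2, hf2] at h5
      exact hpq (Subtype.ext h5)

theorem ly_no_block : ∀ S : Finset (Fin 4),
    1 + ∑ j ∈ S, ![19530, 968750, 2034375, 5812500] j ∣ 8835156 → S = ∅ ∨ S = Finset.univ := by
  decide +kernel

theorem ly_isSimpleGroup [IsSimpleGroup H] (hindex : H.index = 8835156) (x : Fin 4 → G) (hx : ∀ j, x j ∉ H)
    (hcov : ∀ g : G, g ∈ H ∨ ∃ j, ((g : G) : G ⧸ H) ∈ subOrbit H x j)
    (hdisj : ∀ i j, ∀ q, q ∈ subOrbit H x i → q ∈ subOrbit H x j → i = j)
    (hsz : ∀ j, (subOrbit H x j).ncard = ![19530, 968750, 2034375, 5812500] j) : IsSimpleGroup G :=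
  isSimpleGroup_of_five_orbits H x hx hcov hdisj _ hsz ⟨0, by decide⟩ (hindex ▸ ly_no_block) {2, 3, 11, 37, 67}
    (fun p hp => by
      rw [hindex]
      simp only [Finset.mem_insert, Finset.mem_singleton] at hp
      rcases hp with rfl | rfl | rfl | rfl | rfl <;> norm_num)
    (by decide)

end Cfsg.Agent.LyPresented
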